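import Mathlib
import Cfsg.Agent.Lib.Helper58.SpecProd.Defs

/-!
# SpecProd team project, package (PA)

A prime power `s ^ e`, `s` not the characteristic, dividing an element order of `PSL_n(q)`
divides `q ^ d - 1` for some `1 ≤ d ≤ n`.
-/

set_option autoImplicit false

namespace Cfsg.Agent.Lib.Helper25.SpecProd

open Polynomial

universe u

/-- Matrix form: a matrix `M` over a finite field with `M ^ (s ^ (k+1)) = 1`,
`M ^ (s ^ k) ≠ 1`, `s` prime not dividing `q`. -/
theorem powA_matrix {F : Type u} [Field F] [Fintype F] (n : ℕ)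
    (M : Matrix (Fin n) (Fin n) F) (s k : ℕ) (hs : s.Prime) (hsq : ¬ s ∣ Fintype.card F)
    (h1 : M ^ (s ^ (k + 1)) = 1) (h2 : M ^ (s ^ k) ≠ 1) :
    ∃ d : ℕ, 1 ≤ d ∧ d ≤ n ∧ s ^ (k + 1) ∣ Fintype.card F ^ d - 1 := by
  classical
  -- `s` is nonzero in `F`
  have hsF : (s : F) ≠ 0 := by
    obtain ⟨p, hchar⟩ := CharP.exists F
    obtain ⟨a, hp, hcard⟩ := FiniteField.card F p
    intro h0
    have hps : p ∣ s := (CharP.cast_eq_zero_iff F p s).mp h0
    have hpe : p = s := (Nat.prime_dvd_prime_iff_eq hp hs).mp hps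
    apply hsq
    rw [hcard, ← hpe]
    exact dvd_pow_self p a.pos.ne'
  set Y : F[X] := X ^ (s ^ k) with hY
  set P1 : F[X] := Y - 1 with hP1
  set Φ : F[X] := ∑ i ∈ Finset.range s, Y ^ i with hΦ
  have hprod : P1 * Φ = X ^ (s ^ (k + 1)) - 1 := by
    rw [hP1, hΦ, mul_geom_sum, hY, ← pow_mul, ← pow_succ]
  set μ : F[X] := minpoly F M with hμ
  have hint : IsIntegral F M := Matrix.isIntegral M
  have hμ0 : μ ≠ 0 := minpoly.ne_zero hint
  have hμdvd : μ ∣ P1 * Φ := by
    rw [hprod]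
    apply minpoly.dvd
    simp [h1]
  have hμndvd : ¬ μ ∣ P1 := by
    rintro ⟨c, hc⟩
    have h0 : aeval M P1 = 0 := by
      rw [hc, map_mul, hμ, minpoly.aeval, zero_mul]
    apply h2
    have : aeval M P1 = M ^ (s ^ k) - 1 := by simp [hP1, hY]
    rw [this] at h0
    exact sub_eq_zero.mp h0
  -- an irreducible common factor of `μ` and `Φ`
  have hex : ∃ f : F[X], Irreducible f ∧ f ∣ μ ∧ f ∣ Φ := by
    by_contra hcon
    push Not at hcon
    have hrel : IsRelPrime μ Φ :=
      WfDvdMonoid.isRelPrime_of_no_irreducible_factors (fun h => hμ0 h.1) hcon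
    exact hμndvd (hrel.isCoprime.dvd_of_dvd_mul_right hμdvd)
  obtain ⟨f, hfirr, hfμ, hfΦ⟩ := hex
  have hf0 : f ≠ 0 := hfirr.ne_zero
  have hd1 : 1 ≤ f.natDegree := hfirr.natDegree_pos
  have hdn : f.natDegree ≤ n := by
    have h3 : f.natDegree ≤ μ.natDegree := Polynomial.natDegree_le_of_dvd hfμ hμ0
    have h4 : μ.natDegree ≤ M.charpoly.natDegree :=
      Polynomial.natDegree_le_of_dvd (Matrix.minpoly_dvd_charpoly M) (Matrix.charpoly_monic M).ne_zero
    have h5 : M.charpoly.natDegree = n := by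
      rw [Matrix.charpoly_natDegree_eq_dim]; simp
    omega
  refine ⟨f.natDegree, hd1, hdn, ?_⟩
  haveI : Fact (Irreducible f) := ⟨hfirr⟩
  let K := AdjoinRoot f
  let pb := AdjoinRoot.powerBasis hf0
  haveI : Module.Finite F K := pb.finite
  haveI : Finite K := Module.finite_of_finite F
  haveI : Fintype K := Fintype.ofFinite K
  have hcardK : Fintype.card K = Fintype.card F ^ f.natDegree := by
    have h6 : Module.finrank F K = f.natDegree := by
      rw [pb.finrank]; exact AdjoinRoot.powerBasis_dim hf0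
    rw [← h6]
    exact Module.card_eq_pow_finrank
  set x : K := AdjoinRoot.root f with hx
  have hΦx : aeval x Φ = 0 := by
    rw [hx, AdjoinRoot.aeval_eq]
    exact AdjoinRoot.mk_eq_zero.mpr hfΦ
  have hΦx' : ∑ i ∈ Finset.range s, (x ^ (s ^ k)) ^ i = 0 := by
    have : aeval x Φ = ∑ i ∈ Finset.range s, (x ^ (s ^ k)) ^ i := by
      simp [hΦ, hY]
    rw [← this]; exact hΦx
  have hpow1 : x ^ (s ^ (k + 1)) = 1 := by
    have h7 := mul_geom_sum (x ^ (s ^ k)) s
    rw [hΦx', mul_zero] at h7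
    rw [pow_succ, pow_mul]
    exact (sub_eq_zero.mp h7.symm)
  have hpow2 : ¬ x ^ (s ^ k) = 1 := by
    intro h8
    rw [h8] at hΦx'
    simp only [one_pow, Finset.sum_const, Finset.card_range, nsmul_eq_mul, mul_one] at hΦx'
    have h9 : ((s : F) : K) = 0 := by
      rw [← hΦx']; simp
    have h10 : algebraMap F K (s : F) = 0 := by simpa using hΦx'
    exact hsF ((map_eq_zero (algebraMap F K)).mp h10)
  have hord : orderOf x = s ^ (k + 1) :=
    haveI : Fact s.Prime := ⟨hs⟩
    orderOf_eq_prime_pow hpow2 hpow1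
  have hx0 : x ≠ 0 := by
    intro h0
    rw [h0, zero_pow (pow_ne_zero _ hs.ne_zero)] at hpow1
    exact zero_ne_one hpow1
  rw [← hord, ← hcardK]
  exact orderOf_dvd_of_pow_eq_one (FiniteField.pow_card_sub_one_eq_one x hx0)

theorem pkgPowA : Cfsg.Agent.Lib.Helper58.SpecProd.PkgPowA.{u} := by
  intro F _ _ n hn g s e hs hsq hdvd
  classical
  rcases Nat.eq_zero_or_pos e with he | he
  · subst he
    exact ⟨1, le_refl 1, hn, by simp⟩
  obtain ⟨k, rfl⟩ : ∃ k, e = k + 1 := ⟨e - 1, by omega⟩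
  obtain ⟨A, rfl⟩ := QuotientGroup.mk_surjective g
  have hA : s ^ (k + 1) ∣ orderOf A := by
    refine hdvd.trans ?_
    exact orderOf_map_dvd
      (QuotientGroup.mk' (Subgroup.center (Matrix.SpecialLinearGroup (Fin n) F))) A
  have hA0 : orderOf A ≠ 0 := (orderOf_pos A).ne'
  set h : Matrix.SpecialLinearGroup (Fin n) F := A ^ (orderOf A / s ^ (k + 1)) with hh
  have hord : orderOf h = s ^ (k + 1) := orderOf_pow_orderOf_div hA0 hA
  have h1 : (h : Matrix (Fin n) (Fin n) F) ^ (s ^ (k + 1)) = 1 := by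
    have : h ^ (s ^ (k + 1)) = 1 := by rw [← hord]; exact pow_orderOf_eq_one h
    rw [← Matrix.SpecialLinearGroup.coe_pow, this, Matrix.SpecialLinearGroup.coe_one]
  have h2 : (h : Matrix (Fin n) (Fin n) F) ^ (s ^ k) ≠ 1 := by
    intro hcon
    have : h ^ (s ^ k) = 1 := by
      apply Subtype.ext
      rw [Matrix.SpecialLinearGroup.coe_pow, hcon, Matrix.SpecialLinearGroup.coe_one]
    have hd := orderOf_dvd_of_pow_eq_one this
    rw [hord] at hd
    have := (Nat.pow_dvd_pow_iff_le_right hs.one_lt).mp hd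
    omega
  exact powA_matrix n (h : Matrix (Fin n) (Fin n) F) s k hs hsq h1 h2

end Cfsg.Agent.Lib.Helper25.SpecProd
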